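import Mathlib
import Groth.Agent.Lib.Helper18.GalFibre

/-! # The Galois action on a fibre of `X_K ⟶ X` factors through a finite level -/

set_option autoImplicit false
set_option linter.style.haveILetI false
set_option linter.unusedSectionVars false

universe u

open CategoryTheory CategoryTheory.Limits AlgebraicGeometry TensorProduct

namespace Groth.Agent.Lib.Helper18.FrobStable

open Groth.Agent.Lib.Helper18.GalFibre

section algebra

variable {k : Type u} [Field k] {K : Type u} [Field K] [Algebra k K]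

theorem exists_finset_fixing (F : Type u) [Field F] [Algebra k F] (z : F ⊗[k] K) :
    ∃ S : Finset K, ∀ σ : K ≃ₐ[k] K, (∀ c ∈ S, σ c = c) →
      Algebra.TensorProduct.map (AlgHom.id k F) (σ : K →ₐ[k] K) z = z := by
  classical
  induction z using TensorProduct.induction_on with
  | zero => exact ⟨∅, fun σ _ => map_zero _⟩
  | tmul a c =>
    refine ⟨{c}, fun σ hσ => ?_⟩
    rw [Algebra.TensorProduct.map_tmul]
    simp only [AlgHom.coe_id, id_eq]
    congr 1
    exact hσ c (Finset.mem_singleton_self c)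
  | add z₁ z₂ h₁ h₂ =>
    obtain ⟨S₁, hS₁⟩ := h₁
    obtain ⟨S₂, hS₂⟩ := h₂
    refine ⟨S₁ ∪ S₂, fun σ hσ => ?_⟩
    rw [map_add, hS₁ σ (fun c hc => hσ c (Finset.mem_union_left _ hc)),
      hS₂ σ (fun c hc => hσ c (Finset.mem_union_right _ hc))]

theorem exists_mem_not_mem [Algebra.IsAlgebraic k K] (F : Type u) [Field F] [Algebra k F]
    {P Q : PrimeSpectrum (F ⊗[k] K)} (h : P ≠ Q) : ∃ z, z ∈ P.asIdeal ∧ z ∉ Q.asIdeal := by
  haveI : Algebra.IsIntegral k K := inferInstance
  haveI : Algebra.IsIntegral F (F ⊗[k] K) := inferInstance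
  have hmax : P.asIdeal.IsMaximal := by
    apply Ideal.isMaximal_of_isIntegral_of_isMaximal_comap (R := F)
    have : P.asIdeal.comap (algebraMap F (F ⊗[k] K)) = ⊥ := Ideal.eq_bot_of_prime _
    rw [this]
    exact Ideal.bot_isMaximal
  by_contra hcon
  push_neg at hcon
  have hle : P.asIdeal ≤ Q.asIdeal := hcon
  have := hmax.eq_of_le Q.isPrime.ne_top hle
  exact h (PrimeSpectrum.ext this)

theorem exists_finset_fixing_primes [Algebra.IsAlgebraic k K] (F : Type u) [Field F] [Algebra k F]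
    [Finite (PrimeSpectrum (F ⊗[k] K))] :
    ∃ S : Finset K, ∀ σ : K ≃ₐ[k] K, (∀ c ∈ S, σ c = c) → ∀ P : PrimeSpectrum (F ⊗[k] K),
      PrimeSpectrum.comap
        (Algebra.TensorProduct.map (AlgHom.id k F) (σ : K →ₐ[k] K)).toRingHom P = P := by
  classical
  haveI : Fintype (PrimeSpectrum (F ⊗[k] K)) := Fintype.ofFinite _
  choose z hz1 hz2 using fun (PQ : {PQ : PrimeSpectrum (F ⊗[k] K) × PrimeSpectrum (F ⊗[k] K) //
    PQ.1 ≠ PQ.2}) => exists_mem_not_mem (k := k) (K := K) F PQ.2
  choose T hT using fun PQ => exists_finset_fixing (k := k) (K := K) F (z PQ)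
  refine ⟨Finset.univ.biUnion T, fun σ hσ P => ?_⟩
  by_contra hne
  have hne' : P ≠ PrimeSpectrum.comap
      (Algebra.TensorProduct.map (AlgHom.id k F) (σ : K →ₐ[k] K)).toRingHom P := fun h => hne h.symm
  have h1 := hz1 ⟨(P, _), hne'⟩
  have h2 := hz2 ⟨(P, _), hne'⟩
  have h3 := hT ⟨(P, _), hne'⟩ σ (fun c hc => hσ c (Finset.mem_biUnion.mpr ⟨_, Finset.mem_univ _, hc⟩))
  apply h2
  show (Algebra.TensorProduct.map (AlgHom.id k F) (σ : K →ₐ[k] K)).toRingHom _ ∈ P.asIdeal
  show (Algebra.TensorProduct.map (AlgHom.id k F) (σ : K →ₐ[k] K)) _ ∈ P.asIdeal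
  rw [h3]
  exact h1

end algebra

section scheme

variable {k : Type u} [Field k] {K : Type u} [Field K] [Algebra k K] [Algebra.IsAlgebraic k K]

theorem exists_finset_fixing_of_algebra (F : Type u) [Field F] [Algebra k F]
    [Finite (PrimeSpectrum (F ⊗[k] K))] :
    ∃ S : Finset K, ∀ σ : K ≃ₐ[k] K, (∀ c ∈ S, σ c = c) →
      ∀ s : ↥(pullback (Spec.map (CommRingCat.ofHom (algebraMap k F))) (sK k K)),
        (actOf (Spec.map (CommRingCat.ofHom (algebraMap k F))) σ).base s = s := by
  obtain ⟨S, hS⟩ := exists_finset_fixing_primes (k := k) (K := K) F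
  refine ⟨S, fun σ hσ s => ?_⟩
  let e := pullbackSpecIso k F K
  have h1 : (Spec.map (CommRingCat.ofHom
      (Algebra.TensorProduct.map (AlgHom.id k F) (σ : K →ₐ[k] K)).toRingHom)).base (e.hom.base s)
      = e.hom.base s := hS σ hσ (e.hom.base s)
  have h2 : s = e.inv.base (e.hom.base s) := by
    rw [← Scheme.Hom.comp_apply, e.hom_inv_id]; rfl
  conv_lhs => rw [h2]
  rw [← Scheme.Hom.comp_apply, pullbackSpecIso_inv_actOf, Scheme.Hom.comp_apply, h1, ← h2]

theorem exists_finset_fixing_of_field (F : Type u) [Field F]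
    (f₀ : Spec (CommRingCat.of F) ⟶ Spec (CommRingCat.of k))
    (h : (Spec.preimage f₀).hom.EssFiniteType) :
    ∃ S : Finset K, ∀ σ : K ≃ₐ[k] K, (∀ c ∈ S, σ c = c) →
      ∀ s : ↥(pullback f₀ (sK k K)), (actOf f₀ σ).base s = s := by
  obtain ⟨φ, rfl⟩ : ∃ φ, Spec.map φ = f₀ := ⟨_, Spec.map_preimage _⟩
  have hφ : φ.hom.EssFiniteType := by
    have : Spec.preimage (Spec.map φ) = φ := Spec.map_injective (Spec.map_preimage _)
    rwa [this] at h
  letI : Algebra k F := φ.hom.toAlgebra
  haveI : Algebra.EssFiniteType k F := hφ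
  haveI : Finite (PrimeSpectrum (F ⊗[k] K)) :=
    Groth.Agent.Lib.Helper22.GalPrimes.finite_primeSpectrum_tensor
      (IntermediateField.fg_top_iff.mpr inferInstance)
  exact exists_finset_fixing_of_algebra (k := k) (K := K) F

/-- The Galois action on the fibre of `X_K ⟶ X` over a point factors through a finite level. -/
theorem exists_finset_fixing_fibre {X : Scheme.{u}} (f : X ⟶ Spec (CommRingCat.of k))
    [LocallyOfFiniteType f] (x : X) :
    ∃ S : Finset K, ∀ σ : K ≃ₐ[k] K, (∀ c ∈ S, σ c = c) →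
      ∀ t : ↥(pullback f (sK k K)), (pullback.fst f (sK k K)).base t = x →
        (actOf f σ).base t = t := by
  let j := X.fromSpecResidueField x
  let pt : ↥(Spec (X.residueField x)) := IsLocalRing.closedPoint _
  have hj : j.base pt = x := Scheme.fromSpecResidueField_apply x pt
  obtain ⟨S, hS⟩ := exists_finset_fixing_of_field (K := K) (X.residueField x) (j ≫ f)
    (essFiniteType_preimage f x)
  refine ⟨S, fun σ hσ t ht => ?_⟩
  obtain ⟨s, hs, -⟩ := Scheme.exists_preimage_of_isPullback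
    (isPullback_mapOf (K := K) j f) t pt (by rw [hj, ht])
  rw [← hs, ← Scheme.Hom.comp_apply, mapOf_actOf, Scheme.Hom.comp_apply, hS σ hσ s]

end scheme

end Groth.Agent.Lib.Helper18.FrobStable
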