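import Mathlib
import Groth.Agent.Lib.Helper18.GalFibre

/-! # The Frobenius endomorphism of a base change acts on points as the inverse of the
arithmetic Frobenius -/

set_option autoImplicit false
set_option linter.style.haveILetI false
set_option linter.unusedSectionVars false

universe u

open CategoryTheory CategoryTheory.Limits AlgebraicGeometry TensorProduct

namespace Groth.Agent.Lib.Helper18.FrobStable

open Groth.Agent.Lib.Helper18.GalFibre

variable {k : Type u} [Field k] [Fintype k] {X : Scheme.{u}}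

/-- Naturality of the Frobenius for field-valued points. -/
theorem point_comp_frob (FX : X ⟶ X) (hle : ∀ U : X.Opens, U ≤ FX ⁻¹ᵁ U)
    (hFapp : ∀ (U : X.Opens) (s : Γ(X, U)), (FX.appLE U U (hle U)).hom s = s ^ Fintype.card k)
    (L : Type u) [Field L] [Algebra k L] (y : Spec (CommRingCat.of L) ⟶ X) :
    y ≫ FX = Spec.map (CommRingCat.ofHom (FiniteField.frobeniusAlgHom k L).toRingHom) ≫ y := by
  let pt : ↥(Spec (CommRingCat.of L)) := (⊥ : PrimeSpectrum L)
  obtain ⟨U, hU, hxU⟩ : ∃ U : X.Opens, IsAffineOpen U ∧ y.base pt ∈ U := by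
    obtain ⟨_, ⟨U, hU, rfl⟩, hxU, -⟩ := X.isBasis_affineOpens.exists_subset_of_mem_open
      (Set.mem_univ (y.base pt)) isOpen_univ
    exact ⟨U, hU, hxU⟩
  have hrange : Set.range y.base ⊆ Set.range hU.fromSpec.base := by
    rw [hU.range_fromSpec]
    rintro _ ⟨z, rfl⟩
    have : z = pt := Subsingleton.elim (α := PrimeSpectrum L) _ _
    rw [this]
    exact hxU
  obtain ⟨y', hy'⟩ : ∃ y' : Spec (CommRingCat.of L) ⟶ Spec Γ(X, U), y' ≫ hU.fromSpec = y :=
    ⟨IsOpenImmersion.lift hU.fromSpec y hrange, IsOpenImmersion.lift_fac _ _ _⟩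
  obtain ⟨α, rfl⟩ : ∃ α : Γ(X, U) ⟶ CommRingCat.of L, Spec.map α = y' :=
    ⟨Spec.preimage y', Spec.map_preimage _⟩
  rw [← hy', Category.assoc, ← IsAffineOpen.SpecMap_appLE_fromSpec FX hU hU (hle U),
    ← Spec.map_comp_assoc, ← Spec.map_comp_assoc]
  congr 2
  ext s
  show α.hom ((FX.appLE U U (hle U)).hom s) = (α.hom s) ^ Fintype.card k
  rw [hFapp, map_pow]

variable {K : Type u} [Field K] [Algebra k K] [Algebra.IsAlgebraic k K]
  (f : X ⟶ Spec (CommRingCat.of k))

/-- The endomorphism `F_X × id` of `X_K` followed by the arithmetic Frobenius is the identity on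
points. -/
theorem actOf_frob_apply (FX : X ⟶ X) (hle : ∀ U : X.Opens, U ≤ FX ⁻¹ᵁ U)
    (hFapp : ∀ (U : X.Opens) (s : Γ(X, U)), (FX.appLE U U (hle U)).hom s = s ^ Fintype.card k)
    (F : pullback f (sK k K) ⟶ pullback f (sK k K))
    (hF1 : F ≫ pullback.fst f (sK k K) = pullback.fst f (sK k K) ≫ FX)
    (hF2 : F ≫ pullback.snd f (sK k K) = pullback.snd f (sK k K))
    (t : ↥(pullback f (sK k K))) :
    (actOf f (FiniteField.frobeniusAlgEquivOfAlgebraic k K)).base (F.base t) = t := by
  let L := (pullback f (sK k K)).residueField t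
  let j := (pullback f (sK k K)).fromSpecResidueField t
  obtain ⟨ψ, hψ⟩ : ∃ ψ : CommRingCat.of K ⟶ CommRingCat.of L,
      Spec.map ψ = j ≫ pullback.snd f (sK k K) := ⟨Spec.preimage _, Spec.map_preimage _⟩
  letI : Algebra k L := (ψ.hom.comp (algebraMap k K)).toAlgebra
  have key : j ≫ F ≫ actOf f (FiniteField.frobeniusAlgEquivOfAlgebraic k K) =
      Spec.map (CommRingCat.ofHom (FiniteField.frobeniusAlgHom k L).toRingHom) ≫ j := by
    apply pullback.hom_ext
    · rw [Category.assoc, Category.assoc, actOf_fst, hF1, ← Category.assoc,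
        point_comp_frob FX hle hFapp L (j ≫ pullback.fst f (sK k K)), Category.assoc]
    · rw [Category.assoc, Category.assoc, actOf_snd, ← Category.assoc F, hF2, ← Category.assoc,
        ← hψ, Category.assoc, ← hψ, ← Spec.map_comp, ← Spec.map_comp]
      congr 1
      ext c
      show ψ.hom (c ^ Fintype.card k) = (ψ.hom c) ^ Fintype.card k
      rw [map_pow]
  let pt : ↥(Spec (CommRingCat.of L)) := (⊥ : PrimeSpectrum L)
  have h1 : j.base pt = t := Scheme.fromSpecResidueField_apply t pt
  have h2 := congrArg (fun g => g.base pt) key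
  simp only [Scheme.Hom.comp_apply] at h2
  rw [h1] at h2
  rw [h2]
  exact Scheme.fromSpecResidueField_apply t _

end Groth.Agent.Lib.Helper18.FrobStable
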