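import Mathlib
import Groth.Agent.Lib.Helper18.FrobStable.Points
import Groth.Agent.Lib.Helper18.FrobStable.Cont

/-! # Frobenius-stable closed subsets of `X_{k̄}` descend to `X` -/

set_option autoImplicit false
set_option linter.style.haveILetI false
set_option linter.unusedSectionVars false

universe u

open CategoryTheory CategoryTheory.Limits AlgebraicGeometry TensorProduct

namespace Groth.Agent.Lib.Helper18.FrobStable

open Groth.Agent.Lib.Helper18.GalFibre

section field

variable {k : Type u} [Field k] [Fintype k] {K : Type u} [Field K] [Algebra k K]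
  [Algebra.IsAlgebraic k K]

/-- On a finite subset of an algebraic extension of a finite field, every automorphism is a power
of the Frobenius. -/
theorem exists_pow_frobenius_eq (σ : K ≃ₐ[k] K) (S : Finset K) :
    ∃ n : ℕ, ∀ c ∈ S, σ c = (FiniteField.frobeniusAlgEquivOfAlgebraic k K ^ n) c := by
  let k' : IntermediateField k K := IntermediateField.adjoin k (S : Set K)
  haveI : FiniteDimensional k k' :=
    IntermediateField.finiteDimensional_adjoin (fun c _ => Algebra.IsIntegral.isIntegral c)
  haveI : Finite k' := Module.finite_of_finite k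
  haveI : Normal k k' := inferInstance
  obtain ⟨n, hn⟩ := (FiniteField.bijective_frobeniusAlgEquivOfAlgebraic_pow k k').2
    (σ.restrictNormal k')
  refine ⟨n.1, fun c hc => ?_⟩
  have hck' : c ∈ k' := IntermediateField.subset_adjoin k _ hc
  have h1 := AlgEquiv.restrictNormal_commutes σ k' ⟨c, hck'⟩
  have h2 : σ c = algebraMap k' K ((σ.restrictNormal k') ⟨c, hck'⟩) := h1.symm
  rw [h2, ← hn]
  simp only [AlgEquiv.coe_pow, FiniteField.coe_frobeniusAlgEquivOfAlgebraic_iterate]
  rfl

end field

section sets

theorem iterate_mem {α : Type*} (g : α → α) (W : Set α) (hW : ∀ t ∈ W, g t ∈ W) {t : α}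
    (ht : t ∈ W) (n : ℕ) : g^[n] t ∈ W := by
  induction n with
  | zero => exact ht
  | succ n ih =>
    rw [Function.iterate_succ_apply']
    exact hW _ ih

/-- If `g` has inverse `h`, `g` maps `W` into itself and the forward orbit of `t ∈ W` under `g` is
finite, then the orbit of `t` under `h` stays in `W`. -/
theorem inverse_iterate_mem {α : Type*} (g h : α → α) (hgh : ∀ t, h (g t) = t) (W : Set α)
    (hW : ∀ t ∈ W, g t ∈ W) {t : α} (ht : t ∈ W)
    (hfin : (Set.range fun m : ℕ => g^[m] t).Finite) (n : ℕ) : h^[n] t ∈ W := by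
  haveI : Finite ↥(Set.range fun m : ℕ => g^[m] t) := hfin
  obtain ⟨a, b, hab, heq⟩ := Finite.exists_ne_map_eq_of_infinite
    (fun m : ℕ => (⟨g^[m] t, ⟨m, rfl⟩⟩ : ↥(Set.range fun m : ℕ => g^[m] t)))
  have heq' : g^[a] t = g^[b] t := congrArg Subtype.val heq
  have hginj : Function.Injective g := Function.LeftInverse.injective hgh
  have key : ∃ d : ℕ, 0 < d ∧ g^[d] t = t := by
    rcases lt_or_gt_of_ne hab with h1 | h1
    · refine ⟨b - a, by omega, ?_⟩
      have h2 : b = a + (b - a) := by omega
      rw [h2, Function.iterate_add_apply] at heq'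
      exact ((hginj.iterate a) heq').symm
    · refine ⟨a - b, by omega, ?_⟩
      have h2 : a = b + (a - b) := by omega
      rw [h2, Function.iterate_add_apply] at heq'
      exact (hginj.iterate b) heq'
  obtain ⟨d, hd, hfix⟩ := key
  have h3 : g^[d * n] t = t := by
    rw [Function.iterate_mul]
    exact Function.iterate_fixed hfix n
  have h4 : d * n = n + (d - 1) * n := by
    have : d = 1 + (d - 1) := by omega
    conv_lhs => rw [this]
    ring
  have h5 : h^[n] t = g^[(d - 1) * n] t := by
    conv_lhs => rw [← h3, h4, Function.iterate_add_apply]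
    exact (Function.LeftInverse.iterate (g := h) (f := g) hgh n) _
  rw [h5]
  exact iterate_mem g W hW ht _

end sets

section main

variable {k : Type u} [Field k] [Fintype k] {K : Type u} [Field K] [Algebra k K] [Normal k K]
variable {X : Scheme.{u}} (f : X ⟶ Spec (CommRingCat.of k))

theorem actOf_pow_apply (σ : K ≃ₐ[k] K) (n : ℕ) (t : ↥(pullback f (sK k K))) :
    (actOf f (σ ^ n)).base t = ((actOf f σ).base)^[n] t := by
  induction n with
  | zero =>
    rw [pow_zero, actOf_one]
    rfl
  | succ n ih =>
    rw [pow_succ, ← actOf_mul, Scheme.Hom.comp_apply, ih, Function.iterate_succ_apply']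

/-- A closed subset of `X_K` stable under `F = F_X × id` is the preimage of a closed subset of
`X`. -/
theorem exists_closed_of_frob_stable [LocallyOfFiniteType f]
    (FX : X ⟶ X) (hle : ∀ U : X.Opens, U ≤ FX ⁻¹ᵁ U)
    (hFapp : ∀ (U : X.Opens) (s : Γ(X, U)), (FX.appLE U U (hle U)).hom s = s ^ Fintype.card k)
    (F : pullback f (sK k K) ⟶ pullback f (sK k K))
    (hF1 : F ≫ pullback.fst f (sK k K) = pullback.fst f (sK k K) ≫ FX)
    (hF2 : F ≫ pullback.snd f (sK k K) = pullback.snd f (sK k K))
    (W : Set ↥(pullback f (sK k K))) (hW : IsClosed W) (hFW : F.base '' W ⊆ W) :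
    ∃ Y : Set X, IsClosed Y ∧ (pullback.fst f (sK k K)).base ⁻¹' Y = W := by
  haveI : Algebra.IsAlgebraic k K := inferInstance
  set φ := FiniteField.frobeniusAlgEquivOfAlgebraic k K with hφ
  -- `F` is the inverse of the arithmetic Frobenius on points
  have hFt : ∀ t, F.base t = (actOf f φ⁻¹).base t := by
    intro t
    have h1 := actOf_frob_apply f FX hle hFapp F hF1 hF2 t
    rw [← h1, actOf_inv_apply]
    rw [h1]
  have hWg : ∀ t ∈ W, (actOf f φ⁻¹).base t ∈ W := by
    intro t ht
    rw [← hFt]
    exact hFW ⟨t, ht, rfl⟩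
  -- stability under the powers of the arithmetic Frobenius
  have hpow : ∀ t ∈ W, ∀ n : ℕ, (actOf f (φ ^ n)).base t ∈ W := by
    intro t ht n
    rw [actOf_pow_apply]
    refine inverse_iterate_mem (actOf f φ⁻¹).base (actOf f φ).base (actOf_apply_inv f φ) W hWg ht
      ?_ n
    refine (finite_fibre (K := K) f ((pullback.fst f (sK k K)).base t)).subset ?_
    rintro _ ⟨m, rfl⟩
    show (pullback.fst f (sK k K)).base (((actOf f φ⁻¹).base)^[m] t) = _
    induction m with
    | zero => rfl
    | succ m ih => rw [Function.iterate_succ_apply', fst_actOf_apply, ih]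
  -- stability under the whole Galois group
  have hall : ∀ (σ : K ≃ₐ[k] K), ∀ t ∈ W, (actOf f σ).base t ∈ W := by
    intro σ t ht
    obtain ⟨S, hS⟩ := exists_finset_fixing_fibre (K := K) f ((pullback.fst f (sK k K)).base t)
    obtain ⟨n, hn⟩ := exists_pow_frobenius_eq σ S
    have hρ : ∀ c ∈ S, ((φ ^ n)⁻¹ * σ) c = c := by
      intro c hc
      show (φ ^ n)⁻¹ (σ c) = c
      rw [hn c hc]
      exact (φ ^ n).symm_apply_apply c
    have h1 : σ = (φ ^ n) * ((φ ^ n)⁻¹ * σ) := by group
    rw [h1, ← actOf_mul, Scheme.Hom.comp_apply,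
      hS _ hρ _ (fst_actOf_apply f (φ ^ n) t)]
    exact hpow t ht n
  have hinv : ∀ σ : K ≃ₐ[k] K, (actOf f σ).base '' W = W := by
    intro σ
    apply Set.Subset.antisymm
    · rintro _ ⟨t, ht, rfl⟩
      exact hall σ t ht
    · intro t ht
      exact ⟨(actOf f σ⁻¹).base t, hall σ⁻¹ t ht, actOf_apply_inv f σ t⟩
  refine ⟨(pullback.fst f (sK k K)).base '' W, ?_, preimage_image_eq_of_invariant f W hinv⟩
  haveI : IsIntegralHom (sK k K) := by
    rw [IsIntegralHom.SpecMap_iff]
    exact algebraMap_isIntegral_iff.mpr inferInstance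
  exact (pullback.fst f (sK k K)).isClosedMap _ hW

end main

end Groth.Agent.Lib.Helper18.FrobStable
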